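/-
helper728 (task 1188; S2484, S5760): 3-subgroups of classical groups over the field of two elements.

The monomial group `Z₃ wr S_I` acts on `U = (I → A) × V₀`, `A = F₂ × F₂`. For a matrix `S` over `F₂` (adjacency matrix
of a graph without isolated vertices) the map `gt S : (a, b) ↦ (a + S b, b)` has the property that `y` and
`gt S * y * (gt S)⁻¹` are both monomial only if `y` is a permutation preserving the graph.
-/
import Mathlib
import Cfsg.Agent.FastGrp
import Cfsg.Agent.Prune
set_option linter.all false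
prune_inst 0x7f00000000000000000000000000000000000000000000000000000000000000000000000000000000000000000000000000000000000000000000000000000000000000000000000000000000000000003fffffffffffffffffffffffffffbeffbdffffffff
open scoped Cfsg.Agent.FastGrp

set_option autoImplicit false

namespace Cfsg.Agent.H728.Syl3

/-! ### Conjugation into a subgroup of index prime to `p` -/

theorem exists_conj_le {G : Type*} [Group G] [Finite G] {p : ℕ} [Fact p.Prime] (M X : Subgroup G)
    (hidx : ¬ p ∣ M.relIndex X) (Γ : Subgroup G) (hΓX : Γ ≤ X) (hΓ : IsPGroup p Γ) :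
    ∃ h ∈ X, ∀ y ∈ Γ, h⁻¹ * y * h ∈ M := by
  have hp : IsPGroup p (Γ.subgroupOf X) := hΓ.comap_of_injective _ (Subgroup.subtype_injective X)
  obtain ⟨q, hq⟩ := hp.nonempty_fixed_point_of_prime_not_dvd_card (X ⧸ M.subgroupOf X) hidx
  induction q using QuotientGroup.induction_on with
  | H h =>
    refine ⟨h, h.2, fun y hy => ?_⟩
    have h1 := hq ⟨⟨y, hΓX hy⟩, hy⟩
    have h2 : ((⟨y, hΓX hy⟩ * h : X) : X ⧸ M.subgroupOf X) = h := h1
    have h3 := QuotientGroup.eq.1 h2.symm
    rw [Subgroup.mem_subgroupOf] at h3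
    simpa [mul_assoc] using h3

/-! ### The plane and its rotation -/

abbrev A := ZMod 2 × ZMod 2

/-- Multiplication by a primitive cube root of unity. -/
def rot : Equiv.Perm A where
  toFun u := (u.2, u.1 + u.2)
  invFun u := (u.1 + u.2, u.1)
  left_inv := by decide
  right_inv := by decide

/-- The powers of the rotation. -/
def rp (c : ZMod 3) : Equiv.Perm A := rot ^ c.val

theorem rp_mul : ∀ c d : ZMod 3, rp c * rp d = rp (c + d) := by decide

theorem rp_zero : rp 0 = 1 := by decide

theorem rp_apply_zero : ∀ c : ZMod 3, rp c 0 = 0 := by decide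

theorem rp_add : ∀ (c : ZMod 3) (u v : A), rp c (u + v) = rp c u + rp c v := by decide

theorem rp_ne_zero : ∀ (c : ZMod 3) (u : A), u ≠ 0 → rp c u ≠ 0 := by decide

theorem rp_inj : ∀ (c d : ZMod 3) (u : A), u ≠ 0 → rp c u = rp d u → c = d := by decide

/-- the alternating form -/
theorem rp_form : ∀ (c : ZMod 3) (u v : A),
    (rp c u).1 * (rp c v).2 - (rp c u).2 * (rp c v).1 = u.1 * v.2 - u.2 * v.1 := by decide

theorem e_aux : ∀ d : ZMod 3, d ≠ 0 → (rp d (1, 0)).2 = 1 := by decide

/-! ### Monomial maps -/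

section mono

variable {I : Type*} {V₀ : Type*}

/-- The monomial map given by a permutation and powers of the rotation. -/
def mo (σ : Equiv.Perm I) (c : I → ZMod 3) : Equiv.Perm ((I → A) × V₀) where
  toFun u := (fun k => rp (c k) (u.1 (σ.symm k)), u.2)
  invFun u := (fun k => (rp (c (σ k))).symm (u.1 (σ k)), u.2)
  left_inv u := by
    ext1
    · funext k; simp
    · rfl
  right_inv u := by
    ext1
    · funext k; simp
    · rfl

theorem mo_fst (σ : Equiv.Perm I) (c : I → ZMod 3) (u : (I → A) × V₀) (k : I) :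
    (mo σ c u).1 k = rp (c k) (u.1 (σ.symm k)) := rfl

theorem mo_mul (σ σ' : Equiv.Perm I) (c c' : I → ZMod 3) :
    (mo σ c : Equiv.Perm ((I → A) × V₀)) * mo σ' c' = mo (σ * σ') fun k => c k + c' (σ.symm k) := by
  ext1 u
  ext1
  · funext k
    change rp (c k) (rp (c' (σ.symm k)) (u.1 (σ'.symm (σ.symm k)))) =
      rp (c k + c' (σ.symm k)) (u.1 (σ'.symm (σ.symm k)))
    rw [← rp_mul]; rfl
  · rfl

theorem mo_one : (mo 1 0 : Equiv.Perm ((I → A) × V₀)) = 1 := by
  ext1 u
  ext1
  · funext k
    change rp 0 (u.1 k) = u.1 k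
    rw [rp_zero]; rfl
  · rfl

theorem mo_pow (σ : Equiv.Perm I) (n : ℕ) :
    (mo σ 0 : Equiv.Perm ((I → A) × V₀)) ^ n = mo (σ ^ n) 0 := by
  induction n with
  | zero => rw [pow_zero, pow_zero, mo_one]
  | succ n ih =>
    rw [pow_succ, ih, mo_mul, pow_succ]
    congr 1

/-- The monomial group. -/
def monoGroup (I V₀ : Type*) : Subgroup (Equiv.Perm ((I → A) × V₀)) where
  carrier := {g | ∃ σ c, g = mo σ c}
  mul_mem' := by
    rintro _ _ ⟨σ, c, rfl⟩ ⟨σ', c', rfl⟩
    exact ⟨_, _, mo_mul σ σ' c c'⟩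
  one_mem' := ⟨1, 0, mo_one.symm⟩
  inv_mem' := by
    rintro _ ⟨σ, c, rfl⟩
    refine ⟨σ⁻¹, fun k => - c (σ k), ?_⟩
    rw [inv_eq_iff_mul_eq_one, mo_mul, ← mo_one]
    congr 1
    · simp
    · funext k
      simp

variable [DecidableEq I]

theorem mo_injective [Nonempty V₀] {σ σ' : Equiv.Perm I} {c c' : I → ZMod 3}
    (h : (mo σ c : Equiv.Perm ((I → A) × V₀)) = mo σ' c') : σ = σ' ∧ c = c' := by
  obtain ⟨v₀⟩ := ‹Nonempty V₀›
  have key : ∀ i k, rp (c k) (if σ.symm k = i then (1, 0) else 0) =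
      rp (c' k) (if σ'.symm k = i then (1, 0) else 0) := by
    intro i k
    have h1 := congrArg (fun g : Equiv.Perm ((I → A) × V₀) =>
      (g ((fun j => if j = i then (1, 0) else 0), v₀)).1 k) h
    exact h1
  have hσ : σ = σ' := by
    have h2 : σ.symm = σ'.symm := by
      ext1 k
      have h1 := key (σ.symm k) k
      rw [if_pos rfl] at h1
      by_contra hne
      rw [if_neg (Ne.symm hne), rp_apply_zero] at h1
      exact rp_ne_zero _ _ (by decide) h1
    rw [← Equiv.symm_symm σ, h2, Equiv.symm_symm]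
  subst hσ
  refine ⟨rfl, ?_⟩
  funext k
  have h1 := key (σ.symm k) k
  rw [if_pos rfl] at h1
  exact rp_inj _ _ _ (by decide) h1

theorem card_monoGroup [Nonempty V₀] [Fintype I] :
    Nat.card (monoGroup I V₀) = (Fintype.card I).factorial * 3 ^ Fintype.card I := by
  let e : Equiv.Perm I × (I → ZMod 3) ≃ monoGroup I V₀ :=
    Equiv.ofBijective (fun x => ⟨mo x.1 x.2, x.1, x.2, rfl⟩) ⟨by
      rintro ⟨σ, c⟩ ⟨σ', c'⟩ h
      obtain ⟨rfl, rfl⟩ := mo_injective (congrArg Subtype.val h)
      rfl, by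
      rintro ⟨_, σ, c, rfl⟩
      exact ⟨(σ, c), rfl⟩⟩
  rw [← Nat.card_congr e, Nat.card_prod, Nat.card_perm, Nat.card_eq_fintype_card (α := I),
    Nat.card_eq_fintype_card, Fintype.card_fun, ZMod.card]

/-! ### The graph transvection -/

variable [Fintype I]

omit [DecidableEq I]

/-- `(a, b) ↦ (a + S b, b)`. -/
def gt (S : I → I → ZMod 2) : Equiv.Perm ((I → A) × V₀) where
  toFun u := (fun k => ((u.1 k).1 + ∑ j, S k j * (u.1 j).2, (u.1 k).2), u.2)
  invFun u := (fun k => ((u.1 k).1 + ∑ j, S k j * (u.1 j).2, (u.1 k).2), u.2)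
  left_inv u := by
    ext1
    · funext k
      ext1
      · change (u.1 k).1 + ∑ j, S k j * (u.1 j).2 + ∑ j, S k j * (u.1 j).2 = (u.1 k).1
        rw [add_assoc, CharTwo.add_self_eq_zero, add_zero]
      · rfl
    · rfl
  right_inv u := by
    ext1
    · funext k
      ext1
      · change (u.1 k).1 + ∑ j, S k j * (u.1 j).2 + ∑ j, S k j * (u.1 j).2 = (u.1 k).1
        rw [add_assoc, CharTwo.add_self_eq_zero, add_zero]
      · rfl
    · rfl

theorem gt_fst (S : I → I → ZMod 2) (u : (I → A) × V₀) (k : I) :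
    (gt S u).1 k = ((u.1 k).1 + ∑ j, S k j * (u.1 j).2, (u.1 k).2) := rfl

variable [DecidableEq I]

/-- **Key computation.** -/
theorem mono_of_conj [Nonempty V₀] {S : I → I → ZMod 2} (hd : ∀ i, S i i = 0)
    (hn : ∀ i, ∃ j, S i j ≠ 0) {σ τ : Equiv.Perm I} {c d : I → ZMod 3}
    (h : (gt S : Equiv.Perm ((I → A) × V₀)) * mo σ c = mo τ d * gt S) :
    c = 0 ∧ ∀ i j, S (σ i) (σ j) = S i j := by
  obtain ⟨v₀⟩ := ‹Nonempty V₀›
  have key : ∀ (u : I → A) (k : I),
      (((rp (c k) (u (σ.symm k))).1 + ∑ j, S k j * (rp (c j) (u (σ.symm j))).2,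
        (rp (c k) (u (σ.symm k))).2) : A) =
      rp (d k) ((u (τ.symm k)).1 + ∑ j, S (τ.symm k) j * (u j).2, (u (τ.symm k)).2) := by
    intro u k
    exact congrArg (fun g : Equiv.Perm ((I → A) × V₀) => (g (u, v₀)).1 k) h
  -- `d = 0`
  have hd0 : ∀ k, d k = 0 := by
    intro k
    by_contra hne
    set i' := τ.symm k with hi'
    -- the vector `e` at `i'`
    have h1 := congrArg Prod.snd (key (fun j => if j = i' then (1, 0) else 0) k)
    simp only [← hi', if_true] at h1
    have e1 : ∑ j, S i' j * (if j = i' then ((1, 0) : A) else 0).2 = 0 := by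
      refine Finset.sum_eq_zero fun j _ => ?_
      split_ifs <;> simp
    rw [e1, add_zero, e_aux _ hne] at h1
    have hi : σ.symm k = i' := by
      by_contra hne'
      rw [if_neg hne', rp_apply_zero] at h1
      exact absurd h1 (by decide)
    -- the vector `f` at a neighbour
    obtain ⟨j₀, hj₀⟩ := hn i'
    have hj₀' : S i' j₀ = 1 := by
      revert hj₀; generalize S i' j₀ = s; revert s; decide
    have hji : j₀ ≠ i' := by
      rintro rfl
      exact hj₀ (hd _)
    have h2 := congrArg Prod.snd (key (fun j => if j = j₀ then (0, 1) else 0) k)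
    simp only [← hi', hi, if_neg (Ne.symm hji)] at h2
    have e2 : ∑ j, S i' j * (if j = j₀ then ((0, 1) : A) else 0).2 = 1 := by
      rw [Finset.sum_eq_single j₀]
      · simp [hj₀']
      · intro j _ hj; rw [if_neg hj]; simp
      · intro hh; exact absurd (Finset.mem_univ _) hh
    rw [e2, rp_apply_zero] at h2
    have h3 : ((0 : A).1 + 1, (0 : A).2) = ((1, 0) : A) := rfl
    rw [h3, e_aux _ hne] at h2
    exact absurd h2 (by decide)
  have key2 : ∀ (u : I → A) (k : I),
      (((rp (c k) (u (σ.symm k))).1 + ∑ j, S k j * (rp (c j) (u (σ.symm j))).2,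
        (rp (c k) (u (σ.symm k))).2) : A) =
      ((u (τ.symm k)).1 + ∑ j, S (τ.symm k) j * (u j).2, (u (τ.symm k)).2) := by
    intro u k
    have h1 := key u k
    rw [hd0 k, rp_zero] at h1
    exact h1
  have hστ : ∀ k, σ.symm k = τ.symm k := by
    intro k
    by_contra hne
    have h1 := congrArg Prod.snd (key2 (fun j => if j = τ.symm k then (0, 1) else 0) k)
    simp only [if_true, if_neg hne, rp_apply_zero] at h1
    exact absurd h1 (by decide)
  have hc0 : ∀ k, c k = 0 := by
    intro k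
    by_contra hne
    have h1 := congrArg Prod.snd (key2 (fun j => if j = τ.symm k then (1, 0) else 0) k)
    simp only [hστ k, if_true] at h1
    rw [e_aux _ hne] at h1
    exact absurd h1 (by decide)
  refine ⟨funext hc0, fun i j => ?_⟩
  have h1 := congrArg Prod.fst (key2 (fun l => if l = j then (0, 1) else 0) (σ i))
  simp only [← hστ, Equiv.symm_apply_apply, hc0, rp_zero] at h1
  have e1 : ∑ l, S (σ i) l * ((1 : Equiv.Perm A) (if σ.symm l = j then ((0, 1) : A) else 0)).2 =
      S (σ i) (σ j) := by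
    rw [Finset.sum_eq_single (σ j)]
    · simp
    · intro l _ hl
      rw [if_neg (fun hh => hl (by rw [← hh, Equiv.apply_symm_apply]))]
      simp
    · intro hh; exact absurd (Finset.mem_univ _) hh
  have e2 : ∑ l, S i l * (if l = j then ((0, 1) : A) else 0).2 = S i j := by
    rw [Finset.sum_eq_single j]
    · simp
    · intro l _ hl; rw [if_neg hl]; simp
    · intro hh; exact absurd (Finset.mem_univ _) hh
  rw [e1, e2] at h1
  exact add_left_cancel h1

/-- **Separation.** `X` is a finite group of permutations of `U = (I → A) × V₀` containing the monomial group with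
index prime to three, `X'` is normalised by `X` and contains the graph transvection of a graph without isolated
vertices and without automorphisms of order three. Then every 3-subgroup of `X` meets some conjugate under an element
of `X'` trivially. -/
theorem exists_sep [Nonempty V₀] [Finite V₀] (S : I → I → ZMod 2) (hd : ∀ i, S i i = 0)
    (hn : ∀ i, ∃ j, S i j ≠ 0)
    (haut : ∀ σ : Equiv.Perm I, (∀ i j, S (σ i) (σ j) = S i j) → Odd (orderOf σ) → σ = 1)
    (X X' : Subgroup (Equiv.Perm ((I → A) × V₀))) (hXX' : ∀ h ∈ X, ∀ g ∈ X', h * g * h⁻¹ ∈ X')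
    (hx : gt S ∈ X') (hidx : ¬ 3 ∣ (monoGroup I V₀).relIndex X)
    (Γ : Subgroup (Equiv.Perm ((I → A) × V₀))) (hΓX : Γ ≤ X) (hΓ : IsPGroup 3 Γ) :
    ∃ g ∈ X', ∀ y ∈ Γ, g * y * g⁻¹ ∈ Γ → y = 1 := by
  have : Fact (Nat.Prime 3) := ⟨Nat.prime_three⟩
  obtain ⟨h, hh, hcon⟩ := exists_conj_le (p := 3) (monoGroup I V₀) X hidx Γ hΓX hΓ
  refine ⟨h * gt S * h⁻¹, hXX' h hh _ hx, fun y hy hy' => ?_⟩
  obtain ⟨σ, c, h1⟩ := hcon y hy
  obtain ⟨τ, d, h2⟩ := hcon _ hy'
  have h3 : h⁻¹ * (h * gt S * h⁻¹ * y * (h * gt S * h⁻¹)⁻¹) * h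
      = gt S * (h⁻¹ * y * h) * (gt S)⁻¹ := by group
  rw [h3, h1, mul_inv_eq_iff_eq_mul] at h2
  obtain ⟨hc, hσ⟩ := mono_of_conj hd hn h2
  subst hc
  obtain ⟨k, hk⟩ := hΓ ⟨y, hy⟩
  have hk' : y ^ 3 ^ k = 1 := congrArg Subtype.val hk
  have h4 : (mo σ 0 : Equiv.Perm ((I → A) × V₀)) ^ 3 ^ k = 1 := by
    have e1 := conj_pow (i := 3 ^ k) (a := h⁻¹) (b := y)
    rw [inv_inv, hk', mul_one, inv_mul_cancel] at e1
    rw [← h1]; exact e1
  rw [mo_pow, ← mo_one] at h4
  have h5 : σ ^ 3 ^ k = 1 := (mo_injective h4).1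
  have h6 : Odd (orderOf σ) := by
    have : orderOf σ ∣ 3 ^ k := orderOf_dvd_of_pow_eq_one h5
    exact Odd.of_dvd_nat (Odd.pow (by decide)) this
  have h7 := haut σ hσ h6
  rw [h7, mo_one] at h1
  have h8 : y = h * (h⁻¹ * y * h) * h⁻¹ := by group
  rw [h8, h1]; group

end mono

/-! ### The path -/

/-- The adjacency matrix of the path. -/
def pathS (n : ℕ) (i j : Fin n) : ZMod 2 := if i.val + 1 = j.val ∨ j.val + 1 = i.val then 1 else 0

theorem pathS_ne_zero {n : ℕ} {i j : Fin n} :
    pathS n i j ≠ 0 ↔ i.val + 1 = j.val ∨ j.val + 1 = i.val := by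
  unfold pathS
  split_ifs with h
  · simp [h]
  · simp [h]

theorem pathS_symm {n : ℕ} (i j : Fin n) : pathS n i j = pathS n j i := by
  unfold pathS
  congr 1
  rw [or_comm]

theorem pathS_diag {n : ℕ} (i : Fin n) : pathS n i i = 0 := by
  unfold pathS
  rw [if_neg (by omega)]

theorem pathS_exists {n : ℕ} (hn : 2 ≤ n) (i : Fin n) : ∃ j, pathS n i j ≠ 0 := by
  by_cases h : i.val + 1 < n
  · exact ⟨⟨i.val + 1, h⟩, pathS_ne_zero.2 (Or.inl rfl)⟩
  · exact ⟨⟨i.val - 1, by omega⟩, pathS_ne_zero.2 (Or.inr (by simp only; omega))⟩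

theorem pathS_aut {n : ℕ} (σ : Equiv.Perm (Fin n))
    (h : ∀ i j, pathS n (σ i) (σ j) = pathS n i j) (ho : Odd (orderOf σ)) : σ = 1 := by
  rcases Nat.lt_or_ge n 2 with hn | hn
  · ext i
    have h1 := (σ i).2
    have h2 := i.2
    simp only [Equiv.Perm.one_apply]
    omega
  have hadj : ∀ i j : Fin n, (i.val + 1 = j.val ∨ j.val + 1 = i.val) ↔
      ((σ i).val + 1 = (σ j).val ∨ (σ j).val + 1 = (σ i).val) := by
    intro i j
    rw [← pathS_ne_zero, ← pathS_ne_zero, h]
  -- end points
  have hend : ∀ i : Fin n, (i.val = 0 ∨ i.val + 1 = n) → ((σ i).val = 0 ∨ (σ i).val + 1 = n) := by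
    intro i hi
    by_contra hcon
    push Not at hcon
    have hlt := (σ i).2
    let a : Fin n := ⟨(σ i).val - 1, by omega⟩
    let b : Fin n := ⟨(σ i).val + 1, by omega⟩
    have ha : σ (σ.symm a) = a := Equiv.apply_symm_apply _ _
    have hb : σ (σ.symm b) = b := Equiv.apply_symm_apply _ _
    have h1 := (hadj i (σ.symm a)).2 (by
      rw [ha]
      change (σ i).val + 1 = (σ i).val - 1 ∨ (σ i).val - 1 + 1 = (σ i).val
      omega)
    have h2 := (hadj i (σ.symm b)).2 (by
      rw [hb]
      change (σ i).val + 1 = (σ i).val + 1 ∨ (σ i).val + 1 + 1 = (σ i).val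
      omega)
    have hab : σ.symm a = σ.symm b := by
      ext
      have e1 := (σ.symm a).2
      have e2 := (σ.symm b).2
      omega
    have h3 : (σ i).val - 1 = (σ i).val + 1 := congrArg Fin.val (σ.symm.injective hab)
    omega
  let z : Fin n := ⟨0, by omega⟩
  let l : Fin n := ⟨n - 1, by omega⟩
  have hz : (σ z).val = 0 := by
    by_contra hne
    have h1 : σ z = l := by
      ext
      have := hend z (Or.inl rfl)
      simp only [l]
      omega
    have h2 : σ l = z := by
      ext
      have h3 := hend l (Or.inr (by simp only [l]; omega))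
      have h4 : σ l ≠ σ z := fun hh => by
        have := congrArg Fin.val (σ.injective hh)
        simp only [l, z] at this
        omega
      rw [h1] at h4
      have h5 : (σ l).val ≠ n - 1 := fun hh => h4 (Fin.ext hh)
      simp only [z]
      omega
    obtain ⟨m, hm⟩ := ho
    have h3 : (σ ^ 2) z = z := by rw [pow_two, Equiv.Perm.mul_apply, h1, h2]
    have h4 : ∀ k : ℕ, (σ ^ (2 * k)) z = z := by
      intro k
      induction k with
      | zero => simp
      | succ k ih => rw [Nat.mul_succ, pow_add, Equiv.Perm.mul_apply, h3, ih]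
    have h5 := pow_orderOf_eq_one σ
    rw [hm, pow_succ'] at h5
    have h6 := DFunLike.congr_fun h5 z
    rw [Equiv.Perm.mul_apply, h4, h1] at h6
    have := congrArg Fin.val h6
    simp only [l, z, Equiv.Perm.one_apply] at this
    omega
  have hall : ∀ k : ℕ, ∀ hk : k < n, (σ ⟨k, hk⟩).val = k := by
    intro k
    induction k using Nat.strong_induction_on with
    | _ k ih =>
      intro hk
      rcases Nat.eq_zero_or_pos k with rfl | hk0
      · exact hz
      · have h1 := ih (k - 1) (by omega) (by omega)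
        have h2 := (hadj ⟨k - 1, by omega⟩ ⟨k, hk⟩).1 (Or.inl (by simp only; omega))
        rw [h1] at h2
        rcases h2 with h2 | h2
        · omega
        · exfalso
          have h3 := ih (k - 2) (by omega) (by omega)
          have h4 : σ ⟨k - 2, by omega⟩ = σ ⟨k, hk⟩ := by
            ext
            rw [h3]
            omega
          have h5 := congrArg Fin.val (σ.injective h4)
          simp only at h5
          omega
  ext i
  rw [Equiv.Perm.one_apply]
  exact hall i.val i.2

end Cfsg.Agent.H728.Syl3
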